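import Groth.Prelude.Def_LocRes
import Mathlib.Algebra.MvPolynomial.CommRing
import Mathlib.RingTheory.PowerSeries.Inverse

/-!
# Residues of powers
-/

namespace Groth.Agent.LocResLib

open PowerSeries

universe u

variable {R S : Type*} [CommRing R] [CommRing S]

lemma derivative_units_zpow (U : R⟦X⟧ˣ) (n : ℤ) :
    derivative R ((U ^ n : R⟦X⟧ˣ) : R⟦X⟧) =
      n • (((U ^ (n - 1) : R⟦X⟧ˣ) : R⟦X⟧) * derivative R (U : R⟦X⟧)) := by
  obtain ⟨m, rfl | rfl⟩ := n.eq_nat_or_neg
  · rcases m with _ | m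
    · simp
    · rw [show (((m + 1 : ℕ) : ℤ) - 1) = (m : ℤ) by omega, zpow_natCast, zpow_natCast,
        Units.val_pow_eq_pow_val, Units.val_pow_eq_pow_val, Derivation.leibniz_pow,
        Nat.add_sub_cancel, natCast_zsmul, smul_eq_mul]
  · rcases m with _ | m
    · simp
    · have hv : derivative R ((U⁻¹ : R⟦X⟧ˣ) : R⟦X⟧) =
          -((U⁻¹ : R⟦X⟧ˣ) : R⟦X⟧) ^ 2 * derivative R (U : R⟦X⟧) := by
        rw [(derivative R).leibniz_of_mul_eq_one (U.inv_mul), smul_eq_mul]
      rw [show (-(((m + 1 : ℕ) : ℤ)) - 1) = -((m + 2 : ℕ) : ℤ) by omega, ← inv_zpow', ← inv_zpow',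
        zpow_natCast, zpow_natCast, Units.val_pow_eq_pow_val, Units.val_pow_eq_pow_val,
        Derivation.leibniz_pow, hv, Nat.add_sub_cancel, smul_eq_mul, neg_smul, natCast_zsmul]
      simp only [nsmul_eq_mul]
      ring

/-- The coefficient computing the residue of `f ^ (n - 1) df`. -/
noncomputable def resCoeff (U : R⟦X⟧ˣ) (n a : ℤ) (k : ℕ) : R :=
  coeff k (((U ^ (n - 1) : R⟦X⟧ˣ) : R⟦X⟧) * derivative R (U : R⟦X⟧)) +
    (a : R) * coeff (k + 1) ((U ^ n : R⟦X⟧ˣ) : R⟦X⟧)

lemma map_derivative (φ : R →+* S) (p : R⟦X⟧) :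
    PowerSeries.map φ (derivative R p) = derivative S (PowerSeries.map φ p) := by
  ext i
  simp [coeff_derivative]

lemma map_resCoeff (φ : R →+* S) (U : R⟦X⟧ˣ) (n a : ℤ) (k : ℕ) :
    φ (resCoeff U n a k) = resCoeff (Units.map (PowerSeries.map φ).toMonoidHom U) n a k := by
  simp only [resCoeff, map_add, map_mul, map_intCast, ← coeff_map, ← map_zpow, Units.coe_map,
    map_derivative]
  rfl

lemma mul_resCoeff (U : R⟦X⟧ˣ) {n a : ℤ} {k : ℕ} (h : n * a = -((k : ℤ) + 1)) :
    (n : R) * resCoeff U n a k = 0 := by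
  have h2 := congrArg (coeff k) (derivative_units_zpow U n)
  rw [map_zsmul, coeff_derivative, zsmul_eq_mul] at h2
  have h' : (n : R) * (a : R) = -((k : R) + 1) := by exact_mod_cast congrArg (Int.cast : ℤ → R) h
  rw [resCoeff, mul_add, ← h2, ← mul_assoc, h']
  ring

/-- Universality: the coefficient vanishes in every ring. -/
lemma resCoeff_eq_zero (U : R⟦X⟧ˣ) (hU : constantCoeff (U : R⟦X⟧) = 1) {n a : ℤ} {k : ℕ}
    (h : n * a = -((k : ℤ) + 1)) : resCoeff U n a k = 0 := by
  let V : (MvPolynomial ℕ ℤ)⟦X⟧ := PowerSeries.mk fun i => if i = 0 then 1 else MvPolynomial.X i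
  have hV : IsUnit V := isUnit_iff_constantCoeff.2 (by
    rw [← coeff_zero_eq_constantCoeff_apply]; simp [V])
  let φ : MvPolynomial ℕ ℤ →+* R :=
    MvPolynomial.eval₂Hom (Int.castRingHom R) fun i => coeff i (U : R⟦X⟧)
  have hφ : Units.map (PowerSeries.map φ).toMonoidHom hV.unit = U := by
    refine Units.ext (PowerSeries.ext fun i => ?_)
    simp only [Units.coe_map, IsUnit.unit_spec, RingHom.toMonoidHom_eq_coe, MonoidHom.coe_coe,
      coeff_map, V, coeff_mk]
    split_ifs with hi
    · subst hi; rw [map_one, coeff_zero_eq_constantCoeff_apply, hU]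
    · simp [φ]
  have hn : (n : MvPolynomial ℕ ℤ) ≠ 0 := by
    rw [Int.cast_ne_zero]
    rintro rfl
    rw [zero_mul] at h
    omega
  rw [← hφ]
  exact (map_resCoeff φ hV.unit n a k).symm.trans
    ((congrArg φ ((mul_eq_zero.1 (mul_resCoeff hV.unit h)).resolve_left hn)).trans (map_zero φ))

variable {F : Type u} [Field F]

/-- `res (f ^ (n - 1) df)`. -/
lemma res_zpow_mul_D (f : LaurentSeries F) (hf : f ≠ 0) (n : ℤ) :
    LocRes.res F (f ^ (n - 1) * LocRes.D F f) = if n = 0 then (f.order : F) else 0 := by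
  let c : F := f.coeff f.order
  have hc : c ≠ 0 := mt HahnSeries.coeff_order_eq_zero.1 hf
  let q : F⟦X⟧ := PowerSeries.C c⁻¹ * f.powerSeriesPart
  have hq : constantCoeff q = 1 := by
    rw [← coeff_zero_eq_constantCoeff_apply, PowerSeries.coeff_C_mul,
      LaurentSeries.powerSeriesPart_coeff, Nat.cast_zero, add_zero]
    exact inv_mul_cancel₀ hc
  have hu : IsUnit q := isUnit_iff_constantCoeff.2 (hq ▸ isUnit_one)
  let U := hu.unit
  have hfU : f = HahnSeries.single f.order c * ((U : F⟦X⟧) : LaurentSeries F) := by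
    conv_lhs => rw [← f.single_order_mul_powerSeriesPart]
    simp only [U, IsUnit.unit_spec, q, PowerSeries.coe_mul, PowerSeries.coe_C,
      HahnSeries.C_apply, ← mul_assoc, HahnSeries.single_mul_single, add_zero,
      mul_inv_cancel₀ hc]
  generalize f.order = a at hfU
  have hpow : f ^ (n - 1) = HahnSeries.single ((n - 1) * a) (c ^ (n - 1)) *
      (((U ^ (n - 1) : F⟦X⟧ˣ) : F⟦X⟧) : LaurentSeries F) := by
    have hs : HahnSeries.single a c = (HahnSeries.C c : LaurentSeries F) *
        HahnSeries.single (1 : ℤ) 1 ^ a := by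
      rw [← RatFunc.single_zpow, HahnSeries.C_apply, HahnSeries.single_mul_single,
        zero_add, mul_one]
    have hs' : HahnSeries.single ((n - 1) * a) (c ^ (n - 1)) =
        (HahnSeries.C (c ^ (n - 1)) : LaurentSeries F) *
          HahnSeries.single (1 : ℤ) 1 ^ ((n - 1) * a) := by
      rw [← RatFunc.single_zpow, HahnSeries.C_apply, HahnSeries.single_mul_single,
        zero_add, mul_one]
    rw [hfU, mul_zpow, hs, hs', mul_zpow, ← zpow_mul, mul_comm a (n - 1), map_zpow₀]
    congr 1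
    have := congrArg Units.val (map_zpow
      (Units.map (HahnSeries.ofPowerSeries ℤ F).toMonoidHom) U (n - 1))
    simp only [Units.val_zpow_eq_zpow_val, Units.coe_map] at this
    exact this.symm
  have hD : f ^ (n - 1) * LocRes.D F f =
      HahnSeries.single (n * a) (c ^ n) *
        ((((U ^ (n - 1) : F⟦X⟧ˣ) : F⟦X⟧) * derivative F (U : F⟦X⟧) : F⟦X⟧) : LaurentSeries F) +
      HahnSeries.single (n * a - 1) (c ^ n * (a : F)) *
        (((U ^ n : F⟦X⟧ˣ) : F⟦X⟧) : LaurentSeries F) := by
    rw [hpow]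
    conv_lhs => rw [hfU]
    have comb : ∀ (x y : ℤ) (r t : F) (p p' : F⟦X⟧),
        HahnSeries.single x r * (p : LaurentSeries F) * (HahnSeries.single y t * (p' : LaurentSeries F)) =
          HahnSeries.single (x + y) (r * t) * ((p * p' : F⟦X⟧) : LaurentSeries F) := by
      intro x y r t p p'
      rw [← HahnSeries.single_mul_single, PowerSeries.coe_mul]
      ring
    rw [LocRes.D_apply, LocRes.derivative_single_mul, LocRes.derivative_coe, mul_add, comb, comb,
      ← Units.val_mul, ← zpow_add_one, sub_add_cancel, ← zpow_add_one₀ hc, sub_add_cancel,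
      zsmul_eq_mul, show (n - 1) * a + a = n * a by ring,
      show (n - 1) * a + (a - 1) = n * a - 1 by ring,
      show c ^ (n - 1) * ((a : F) * c) = c ^ (n - 1) * c * (a : F) by ring, ← zpow_add_one₀ hc,
      sub_add_cancel]
  rw [hD, LocRes.res_apply, HahnSeries.coeff_add, HahnSeries.coeff_single_mul,
    HahnSeries.coeff_single_mul, PowerSeries.coeff_coe, PowerSeries.coeff_coe]
  rcases eq_or_ne n 0 with rfl | hn
  · simp only [zero_mul, sub_zero, zero_sub, zpow_zero, one_mul, if_pos (show (-1 : ℤ) < 0 by omega),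
      show (-1 : ℤ) - -1 = 0 by omega, lt_irrefl, if_false, mul_zero, zero_add, Units.val_one,
      Int.natAbs_zero, coeff_zero_eq_constantCoeff_apply, map_one, mul_one, ↓reduceIte]
  · rw [if_neg hn]
    rcases lt_trichotomy (n * a) 0 with h | h | h
    · obtain ⟨k, hk⟩ : ∃ k : ℕ, n * a = -((k : ℤ) + 1) := ⟨(-1 - n * a).toNat, by omega⟩
      have e := resCoeff_eq_zero U hq hk
      rw [resCoeff] at e
      rw [if_neg (show ¬ -1 - n * a < 0 by omega), if_neg (show ¬ -1 - (n * a - 1) < 0 by omega),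
        show (-1 - n * a).natAbs = k by omega, show (-1 - (n * a - 1)).natAbs = k + 1 by omega,
        mul_assoc, ← mul_add, e, mul_zero]
    · have ha : a = 0 := (mul_eq_zero.1 h).resolve_left hn
      rw [if_pos (show -1 - n * a < 0 by omega), ha]
      simp
    · rw [if_pos (show -1 - n * a < 0 by omega), if_pos (show -1 - (n * a - 1) < 0 by omega)]
      simp

end Groth.Agent.LocResLib
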